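import Groth.Agent.CurveDiff.Residue
import Mathlib.RingTheory.RamificationInertia.Ramification
import Mathlib

/-!
# The length of relative differentials of a map of local rings of smooth curves

`length Ω_{B/A} ≥ e - 1`, with equality exactly at tame points.
-/

set_option autoImplicit false
set_option backward.isDefEq.respectTransparency false
set_option backward.isDefEq.respectTransparency.types false
set_option linter.style.haveILetI false

universe u

open IsLocalRing TensorProduct

namespace Groth.Agent.CurveDiff

theorem length_omega {k A B : Type u} [Field k]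
    [CommRing A] [IsDomain A] [IsDiscreteValuationRing A] [CommRing B] [IsDomain B] [IsDiscreteValuationRing B]
    [Algebra k A] [Algebra k B] [Algebra A B] [IsScalarTower k A B] [IsLocalHom (algebraMap A B)]
    [Algebra.EssFiniteType k A] [Algebra.EssFiniteType k B] [Algebra.FormallySmooth k B]
    [Module.Finite k (ResidueField B)]
    (hinj : Function.Injective (algebraMap A B)) (hcyc : ∃ ω : Ω[B⁄k], Submodule.span B {ω} = ⊤) :
    (((maximalIdeal B).ramificationIdx A - 1 : ℕ) : ℕ∞) ≤ Module.length B Ω[B⁄A] ∧
      (Module.length B Ω[B⁄A] = (((maximalIdeal B).ramificationIdx A - 1 : ℕ) : ℕ∞) ↔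
        Algebra.IsSeparable (ResidueField A) (ResidueField B) ∧
          (((maximalIdeal B).ramificationIdx A : ℕ) : ResidueField A) ≠ 0) := by
  obtain ⟨t, ht⟩ := IsDiscreteValuationRing.exists_irreducible A
  obtain ⟨s, hs⟩ := IsDiscreteValuationRing.exists_irreducible B
  have hmA : maximalIdeal A = Ideal.span {t} := ht.maximalIdeal_eq
  have hmB : maximalIdeal B = Ideal.span {s} := hs.maximalIdeal_eq
  have ht0 : algebraMap A B t ≠ 0 := by
    rw [Ne, ← map_zero (algebraMap A B)]
    exact fun h => ht.ne_zero (hinj h)
  obtain ⟨n, v, htn⟩ := IsDiscreteValuationRing.eq_unit_mul_pow_irreducible ht0 hs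
  have hmap : (maximalIdeal A).map (algebraMap A B) = maximalIdeal B ^ n := by
    rw [hmA, Ideal.map_span, Set.image_singleton, htn, hmB, Ideal.span_singleton_pow,
      Ideal.span_singleton_mul_left_unit v.isUnit]
  haveI : (maximalIdeal B).LiesOver (maximalIdeal A) :=
    ⟨(IsLocalRing.maximalIdeal_comap (algebraMap A B)).symm⟩
  have hn : 1 ≤ n := by
    rcases Nat.eq_zero_or_pos n with h | h
    · exfalso
      rw [h, pow_zero, mul_one] at htn
      exact ht.not_isUnit (IsUnit.of_map (algebraMap A B) t (htn ▸ v.isUnit))
    · exact h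
  have he : (maximalIdeal B).ramificationIdx A = n := by
    have hp : (maximalIdeal A).map (algebraMap A B) ≠ ⊥ := by
      rw [hmap]
      exact pow_ne_zero _ (IsDiscreteValuationRing.not_a_field B)
    rw [← Ideal.ramificationIdx'_eq_ramificationIdx' (maximalIdeal A) (maximalIdeal B) hp]
    refine Ideal.ramificationIdx'_spec hmap.le ?_
    rw [hmap]
    exact fun h => (Ideal.pow_succ_lt_pow (IsDiscreteValuationRing.not_a_field B)
      n).not_ge h
  rw [he]
  set K := ResidueField A
  set L := ResidueField B
  haveI : IsScalarTower k K L := IsScalarTower.of_algebraMap_eq fun c ↦ by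
    rw [IsScalarTower.algebraMap_apply k A L, IsScalarTower.algebraMap_apply k A K,
      ← IsScalarTower.algebraMap_apply A K L]
  haveI : Algebra.EssFiniteType A B := Algebra.EssFiniteType.of_comp k A B
  by_cases h1 : n = 1
  · -- unramified index
    subst h1
    simp only [Nat.sub_self, Nat.cast_zero, zero_le, true_and, Nat.cast_one, ne_eq, one_ne_zero,
      not_false_iff, and_true]
    rw [Module.length_eq_zero_iff]
    have hiff := Algebra.FormallyUnramified.iff_map_maximalIdeal_eq (R := A) (S := B)
    constructor
    · intro h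
      exact (hiff.mp ⟨h⟩).1
    · intro h
      exact (hiff.mpr ⟨h, hmap.trans (pow_one _)⟩).subsingleton_kaehlerDifferential
  have h2 : 2 ≤ n := by omega
  obtain ⟨ω, hω⟩ := hcyc
  -- `Ω_{B/k}` is free of rank one
  have hω0 : ω ≠ 0 := by
    intro h
    apply IsDiscreteValuationRing.not_a_field B
    haveI : Algebra.FormallyUnramified k B := ⟨⟨fun z w => by
      have hz : ∀ z : Ω[B⁄k], z = 0 := fun z => by
        obtain ⟨b, rfl⟩ := Submodule.mem_span_singleton.mp (hω ▸ (Submodule.mem_top : z ∈ ⊤))
        rw [h, smul_zero]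
      rw [hz z, hz w]⟩⟩
    haveI : IsLocalHom (algebraMap k B) := ⟨fun c hc => isUnit_iff_ne_zero.mpr fun h0 => by
      rw [h0, map_zero] at hc
      exact not_isUnit_zero hc⟩
    rw [← Algebra.FormallyUnramified.map_maximalIdeal (R := k) (S := B),
      IsLocalRing.isField_iff_maximalIdeal_eq.mp (Field.toIsField k), Ideal.map_bot]
  haveI : Module.IsTorsionFree B Ω[B⁄k] := inferInstance
  have hinjω : ∀ b : B, b • ω = 0 → b = 0 := fun b hb => (smul_eq_zero.mp hb).resolve_right hω0
  haveI hKsep : Algebra.IsSeparable k K := isSeparable_residueField_base hω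
    (hmap.le.trans (Ideal.pow_le_pow_right h2))
    (fun h => (Ideal.pow_succ_lt_pow (IsDiscreteValuationRing.not_a_field B)
      1).ne (by rwa [pow_one]))
  -- coefficients of the differentials of `s`, of the unit and of `t`
  obtain ⟨a, ha⟩ := Submodule.mem_span_singleton.mp
    (hω ▸ (Submodule.mem_top : KaehlerDifferential.D k B s ∈ ⊤))
  obtain ⟨b, hb⟩ := Submodule.mem_span_singleton.mp
    (hω ▸ (Submodule.mem_top : KaehlerDifferential.D k B (v : B) ∈ ⊤))
  obtain ⟨m, rfl⟩ : ∃ m, n = m + 1 := ⟨n - 1, by omega⟩
  set w : B := ((m + 1 : ℕ) : B) * v * a + s * b with hw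
  have hDt : KaehlerDifferential.D k B (algebraMap A B t) = (s ^ m * w) • ω := by
    rw [htn, Derivation.leibniz, Derivation.leibniz_pow, ← ha, ← hb, hw]
    simp only [smul_smul, Nat.add_sub_cancel, smul_add, ← add_smul, ← Nat.cast_smul_eq_nsmul B]
    congr 1
    ring
  -- `Ω_{B/A}` is the quotient by the differential of `t`
  let ψ : B →ₗ[B] Ω[B⁄A] := LinearMap.toSpanSingleton B _ (KaehlerDifferential.map k A B B ω)
  have hψ : Function.Surjective ψ := fun z => by
    obtain ⟨z, rfl⟩ := KaehlerDifferential.map_surjective k A B z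
    obtain ⟨c, rfl⟩ := Submodule.mem_span_singleton.mp (hω ▸ (Submodule.mem_top : z ∈ ⊤))
    exact ⟨c, by simp [ψ]⟩
  have hker : LinearMap.ker ψ = Ideal.span {s ^ m * w} := by
    apply le_antisymm
    · intro c hc
      rw [LinearMap.mem_ker, LinearMap.toSpanSingleton_apply, ← map_smul] at hc
      obtain ⟨y, hy⟩ := ((KaehlerDifferential.exact_mapBaseChange_map k A B) _).mp hc
      have hmem : ∀ y : B ⊗[A] Ω[A⁄k], KaehlerDifferential.mapBaseChange k A B y ∈
          Submodule.span B {KaehlerDifferential.D k B (algebraMap A B t)} := by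
        intro y
        induction y using TensorProduct.induction_on with
        | zero => simp
        | add x y hx hy => rw [map_add]; exact add_mem hx hy
        | tmul l η =>
          obtain ⟨r, rfl⟩ := Submodule.mem_span_singleton.mp
            ((span_D_eq_top (k := k) hmA) ▸ (Submodule.mem_top : η ∈ ⊤))
          rw [KaehlerDifferential.mapBaseChange_tmul, map_smul, KaehlerDifferential.map_D,
            ← algebraMap_smul B r, smul_smul]
          exact Submodule.smul_mem _ _ (Submodule.mem_span_singleton_self _)
      obtain ⟨l, hl⟩ := Submodule.mem_span_singleton.mp (hy ▸ hmem y)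
      rw [hDt, smul_smul] at hl
      have : c - l * (s ^ m * w) = 0 := hinjω _ (by rw [sub_smul, hl, sub_self])
      exact Ideal.mem_span_singleton'.mpr ⟨l, (sub_eq_zero.mp this).symm⟩
    · rw [Ideal.span_singleton_le_iff_mem]
      show ψ (s ^ m * w) = 0
      rw [LinearMap.toSpanSingleton_apply, ← map_smul, ← hDt, KaehlerDifferential.map_D,
        Algebra.algebraMap_self_apply, Derivation.map_algebraMap]
  have hlen : Module.length B Ω[B⁄A] = Module.length B (B ⧸ Ideal.span {s ^ m * w}) := by
    rw [← hker]
    exact ((LinearMap.quotKerEquivOfSurjective ψ hψ).length_eq).symm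
  rw [hlen, Nat.add_sub_cancel]
  -- lengths
  have hpow : ∀ j : ℕ, Module.length B (B ⧸ Ideal.span {s ^ j}) = j := fun j => by
    rw [← Ideal.span_singleton_pow, ← hmB]
    exact IsDiscreteValuationRing.length_quotient_pow_maximalIdeal B j
  have hge : ∀ j : ℕ, s ^ j ∣ s ^ m * w → (j : ℕ∞) ≤ Module.length B (B ⧸ Ideal.span {s ^ m * w}) := by
    intro j hj
    rw [← hpow j]
    exact Module.length_le_of_surjective
      (Submodule.factor (Ideal.span_singleton_le_span_singleton.mpr hj)) (Submodule.factor_surjective _)
  refine ⟨hge m (dvd_mul_right _ _), ?_⟩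
  have hwu : Module.length B (B ⧸ Ideal.span {s ^ m * w}) = m ↔ IsUnit w := by
    constructor
    · intro h
      by_contra hwn
      have hsw : s ∣ w := Ideal.mem_span_singleton.mp (hmB ▸ (mem_maximalIdeal w).mpr hwn)
      have := hge (m + 1) (by rw [pow_succ]; exact mul_dvd_mul_left _ hsw)
      rw [h] at this
      exact absurd (Nat.cast_le.mp this) (by omega)
    · intro h
      rw [Ideal.span_singleton_mul_right_unit h, hpow]
  rw [hwu]
  -- `w` is a unit iff `e ≠ 0` and `a` is a unit
  have hw1 : IsUnit w ↔ IsUnit ((m + 1 : ℕ) : B) ∧ IsUnit a := by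
    rw [← residue_ne_zero_iff_isUnit, ← residue_ne_zero_iff_isUnit, ← residue_ne_zero_iff_isUnit, hw,
      map_add, map_mul, map_mul, map_mul, (residue_eq_zero_iff s).mpr (hmB ▸ Ideal.mem_span_singleton_self s),
      zero_mul, add_zero]
    simp [mul_ne_zero_iff, (residue_ne_zero_iff_isUnit (v : B)).mpr v.isUnit]
  rw [hw1, and_comm]
  refine and_congr ?_ ?_
  · constructor
    · intro hau
      have hL : Subsingleton Ω[L⁄k] := by
        refine ⟨fun z y => ?_⟩
        suffices hz : ∀ z : Ω[L⁄k], z = 0 by rw [hz z, hz y]
        intro z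
        obtain ⟨z, rfl⟩ := KaehlerDifferential.map_surjective_of_surjective k k B L
          IsLocalRing.residue_surjective z
        obtain ⟨c, rfl⟩ := Submodule.mem_span_singleton.mp (hω ▸ (Submodule.mem_top : z ∈ ⊤))
        have h0 : KaehlerDifferential.map k k B L ω = 0 := by
          have h1 := congrArg (KaehlerDifferential.map k k B L) ha
          rw [map_smul, KaehlerDifferential.map_D,
            show algebraMap B L s = 0 from (residue_eq_zero_iff s).mpr (hmB ▸ Ideal.mem_span_singleton_self s),
            map_zero] at h1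
          exact hau.smul_eq_zero.mp h1
        rw [map_smul, h0, smul_zero]
      haveI : Algebra.FormallyUnramified k L := ⟨hL⟩
      haveI : Algebra.IsSeparable k L := Algebra.FormallyUnramified.isSeparable k L
      exact Algebra.isSeparable_tower_top_of_isSeparable k K L
    · intro hsep
      haveI := hsep
      haveI : Algebra.IsSeparable k L := Algebra.IsSeparable.trans k K L
      obtain ⟨c, hc⟩ := Submodule.mem_span_singleton.mp
        ((span_D_eq_top (k := k) hmB) ▸ (Submodule.mem_top : ω ∈ ⊤))
      rw [← ha, smul_smul] at hc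
      have : c * a - 1 = 0 := hinjω _ (by rw [sub_smul, one_smul, hc, sub_self])
      exact IsUnit.of_mul_eq_one_right c (sub_eq_zero.mp this)
  · rw [← residue_ne_zero_iff_isUnit, map_natCast, ← map_natCast (algebraMap K L)]
    exact (map_ne_zero (algebraMap K L))

end Groth.Agent.CurveDiff
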