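import Groth.Agent.S11082
import Mathlib.FieldTheory.SeparablyGenerated
import Mathlib.FieldTheory.Perfect
import Mathlib.RingTheory.Kaehler.Basic
import Mathlib.RingTheory.Unramified.Field
import Mathlib.FieldTheory.IntermediateField.Adjoin.Algebra

/-!
Differentials of function fields of curves.
-/

set_option autoImplicit false

namespace Groth.Agent.CurveDiff

universe u v

theorem exists_generator (k : Type u) (F : Type v) [Field k] [IsAlgClosed k] [Field F] [Algebra k F]
    (hF : (⊤ : IntermediateField k F).FG) (h1 : Algebra.trdeg k F = 1) :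
    ∃ z : F, KaehlerDifferential.D k F z ≠ 0 ∧
      Submodule.span F {KaehlerDifferential.D k F z} = ⊤ := by
  haveI : Algebra.EssFiniteType k F := IntermediateField.fg_top_iff.mp hF
  obtain ⟨s, hs, hsep⟩ := exists_isTranscendenceBasis_and_isSeparable_of_perfectField k F
  have hcard : s.card = 1 := by
    have := hs.cardinalMk_eq_trdeg
    rw [h1, Cardinal.mk_fintype, Fintype.card_coe] at this
    exact_mod_cast this
  obtain ⟨z, rfl⟩ := Finset.card_eq_one.1 hcard
  haveI : Algebra.IsSeparable (IntermediateField.adjoin k (Set.range ((↑) : ({z} : Finset F) → F))) F := by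
    convert hsep <;> simp
  obtain ⟨hli, hspan⟩ := (Groth.Agent.S11082.result k F hF ((↑) : ({z} : Finset F) → F) hs).1 inferInstance
  refine ⟨z, hli.ne_zero (⟨z, Finset.mem_singleton_self z⟩ : ({z} : Finset F)), ?_⟩
  rw [← hspan]
  congr 1
  refine Set.ext fun w => ⟨fun hw => ⟨⟨z, Finset.mem_singleton_self z⟩, hw.symm⟩, fun ⟨⟨x, hx⟩, h⟩ => ?_⟩
  obtain rfl : x = z := Finset.mem_singleton.1 hx
  exact h.symm

theorem main (k : Type u) (K L : Type v)
    [Field k] [IsAlgClosed k] [Field K] [Field L] [Algebra k K] [Algebra k L] [Algebra K L]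
    [IsScalarTower k K L] (hK : (⊤ : IntermediateField k K).FG)
    (hx : ∃ x : K, IsTranscendenceBasis k (fun _ : Unit => x)) [FiniteDimensional K L] :
    (KaehlerDifferential.map k k K L = 0 ∨ Function.Injective (KaehlerDifferential.map k k K L)) ∧
      (Function.Injective (KaehlerDifferential.map k k K L) ↔ Algebra.IsSeparable K L) := by
  classical
  obtain ⟨x, hx⟩ := hx
  have hK1 : Algebra.trdeg k K = 1 := by
    have := hx.lift_cardinalMk_eq_trdeg
    simp at this
    exact this.symm
  have hL1 : Algebra.trdeg k L = 1 := by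
    rw [← trdeg_add_eq k K (A := L), hK1, trdeg_eq_zero_iff.2 inferInstance, add_zero]
  haveI : Algebra.EssFiniteType k K := IntermediateField.fg_top_iff.mp hK
  haveI : Algebra.EssFiniteType k L := Algebra.EssFiniteType.comp k K L
  obtain ⟨z, hz0, hz⟩ := exists_generator k K hK hK1
  obtain ⟨w, hw0, hw⟩ := exists_generator k L (IntermediateField.fg_top_iff.mpr inferInstance) hL1
  set d := KaehlerDifferential.D k L (algebraMap K L z) with hd
  have hmap : KaehlerDifferential.map k k K L (KaehlerDifferential.D k K z) = d := KaehlerDifferential.map_D ..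
  have hform : ∀ e : Ω[K⁄k], ∃ c : K, c • KaehlerDifferential.D k K z = e := fun e =>
    Submodule.mem_span_singleton.1 (hz.ge (Submodule.mem_top (x := e)))
  have hinj : d ≠ 0 → Function.Injective (KaehlerDifferential.map k k K L) := by
    intro hd0
    refine (injective_iff_map_eq_zero _).2 fun e he => ?_
    obtain ⟨c, rfl⟩ := hform e
    rw [map_smul, hmap, ← IsScalarTower.algebraMap_smul L c d] at he
    rw [(map_eq_zero _).1 ((smul_eq_zero.1 he).resolve_right hd0), zero_smul]
  have hne : Function.Injective (KaehlerDifferential.map k k K L) → d ≠ 0 := fun h hd0 =>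
    hz0 (h (by rw [hmap, hd0, map_zero]))
  refine ⟨?_, fun h => ?_, fun h => ?_⟩
  · by_cases hd0 : d = 0
    · refine Or.inl (LinearMap.ext fun e => ?_)
      obtain ⟨c, rfl⟩ := hform e
      rw [map_smul, hmap, hd0, smul_zero, LinearMap.zero_apply]
    · exact Or.inr (hinj hd0)
  · have hd0 := hne h
    rw [← Algebra.FormallyUnramified.iff_isSeparable]
    refine ⟨subsingleton_of_forall_eq 0 fun e => ?_⟩
    obtain ⟨e, rfl⟩ := KaehlerDifferential.map_surjective k K L e
    obtain ⟨a, ha⟩ : ∃ a : L, a • d = e := by
      obtain ⟨b, hb⟩ := Submodule.mem_span_singleton.1 (hw.ge (Submodule.mem_top (x := d)))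
      obtain ⟨a, ha⟩ := Submodule.mem_span_singleton.1 (hw.ge (Submodule.mem_top (x := e)))
      have hb0 : b ≠ 0 := fun hb0 => hd0 (by rw [← hb, hb0, zero_smul])
      exact ⟨a * b⁻¹, by rw [← hb, smul_smul, inv_mul_cancel_right₀ hb0, ha]⟩
    rw [← ha, map_smul, hd, KaehlerDifferential.map_D]
    simp
  · refine hinj fun hd0 => hw0 ?_
    haveI : Algebra.FormallyUnramified K L := (Algebra.FormallyUnramified.iff_isSeparable K L).2 h
    obtain ⟨y, hy⟩ := (KaehlerDifferential.exact_mapBaseChange_map k K L (KaehlerDifferential.D k L w)).1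
      (Subsingleton.elim _ _)
    rw [← hy]
    clear hy
    induction y using TensorProduct.induction_on with
    | zero => simp
    | tmul a e =>
      obtain ⟨c, rfl⟩ := hform e
      rw [KaehlerDifferential.mapBaseChange_tmul, map_smul, hmap, hd0, smul_zero, smul_zero]
    | add u v hu hv => rw [map_add, hu, hv, add_zero]

end Groth.Agent.CurveDiff
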