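import Groth.Agent.CartierEq.Basic
import Mathlib.RingTheory.Unramified.LocalRing
import Mathlib.RingTheory.Unramified.Field
import Mathlib

/-!
# Residue fields at ramified points of maps of curves

`A → B` a local map of local `k`-algebras with `B` formally smooth over `k` and `Ω_{B/k}` cyclic.
If the maximal ideal of `A` goes into the square of that of `B`, then the residue field of `A`
is separable over `k`.
-/

set_option autoImplicit false
set_option backward.isDefEq.respectTransparency false
set_option backward.isDefEq.respectTransparency.types false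
set_option linter.style.haveILetI false

universe u

open IsLocalRing TensorProduct

namespace Groth.Agent.CurveDiff

/-- If the residue field is separable over `k`, a generator of the maximal ideal generates
the differentials. -/
theorem span_D_eq_top {k R : Type u} [Field k] [CommRing R] [IsLocalRing R] [Algebra k R]
    [Algebra.EssFiniteType k R] [Algebra.IsSeparable k (ResidueField R)] {t : R}
    (ht : maximalIdeal R = Ideal.span {t}) :
    Submodule.span R {KaehlerDifferential.D k R t} = ⊤ := by
  rw [← IsLocalRing.map_tensorProduct_mk_eq_top, eq_top_iff]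
  intro z _
  haveI : Algebra.FormallyUnramified k (ResidueField R) := Algebra.FormallyUnramified.of_isSeparable _ _
  have hz : KaehlerDifferential.mapBaseChange k R (ResidueField R) z = 0 := Subsingleton.elim _ _
  obtain ⟨w, rfl⟩ := ((KaehlerDifferential.exact_kerCotangentToTensor_mapBaseChange k R
    (ResidueField R) IsLocalRing.residue_surjective) z).mp hz
  obtain ⟨⟨x, hx⟩, rfl⟩ := Ideal.toCotangent_surjective _ w
  rw [KaehlerDifferential.kerCotangentToTensor_toCotangent]
  have hxm : x ∈ Ideal.span {t} := ht ▸ (IsLocalRing.residue_eq_zero_iff x).mp hx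
  obtain ⟨b, rfl⟩ := Ideal.mem_span_singleton'.mp hxm
  have h0 : t • (1 : ResidueField R) = 0 := by
    rw [Algebra.smul_def, mul_one]
    exact (IsLocalRing.residue_eq_zero_iff t).mpr (ht ▸ Ideal.mem_span_singleton_self t)
  rw [Derivation.leibniz, TensorProduct.tmul_add, ← TensorProduct.smul_tmul t, h0,
    TensorProduct.zero_tmul, add_zero]
  exact Submodule.mem_map_of_mem (Submodule.smul_mem _ b (Submodule.mem_span_singleton_self _))

variable {k A B : Type u} [Field k] [CommRing A] [IsLocalRing A] [CommRing B] [IsLocalRing B] [IsNoetherianRing B]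
  [Algebra k A] [Algebra k B] [Algebra A B] [IsScalarTower k A B] [IsLocalHom (algebraMap A B)]
  [Algebra.EssFiniteType k B]

/-- The differential of an element of `A` is not a generator of `Ω_{B/k}` at a ramified point. -/
theorem not_isUnit_coeff {ω : Ω[B⁄k]} (hω : Submodule.span B {ω} = ⊤)
    (hram : (maximalIdeal A).map (algebraMap A B) ≠ maximalIdeal B) (a : A) (c : B)
    (hc : c • ω = KaehlerDifferential.D k B (algebraMap A B a)) : ¬ IsUnit c := by
  intro hcu
  apply hram
  haveI : Algebra.FormallyUnramified A B := by
    refine ⟨⟨fun z w ↦ ?_⟩⟩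
    suffices hz : ∀ z : Ω[B⁄A], z = 0 by rw [hz z, hz w]
    intro z
    obtain ⟨v, rfl⟩ := KaehlerDifferential.map_surjective k A B z
    obtain ⟨b, rfl⟩ := Submodule.mem_span_singleton.mp (hω ▸ (Submodule.mem_top : v ∈ ⊤))
    have h0 : KaehlerDifferential.map k A B B (c • ω) = 0 := by
      rw [hc, KaehlerDifferential.map_D, Algebra.algebraMap_self_apply, Derivation.map_algebraMap]
    rw [map_smul] at h0
    rw [map_smul, hcu.smul_eq_zero.mp h0, smul_zero]
  haveI : Algebra.EssFiniteType A B := Algebra.EssFiniteType.of_comp k A B
  exact Algebra.FormallyUnramified.map_maximalIdeal (R := A) (S := B)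

variable [Algebra.FormallySmooth k B]

/-- At a point where `m_A ⊆ m_B²` the residue field of `A` is separable over `k`. -/
theorem isSeparable_residueField_base {ω : Ω[B⁄k]} (hω : Submodule.span B {ω} = ⊤)
    [Module.Finite k (ResidueField B)]
    (h2 : (maximalIdeal A).map (algebraMap A B) ≤ maximalIdeal B ^ 2)
    (hm : maximalIdeal B ^ 2 ≠ maximalIdeal B) :
    Algebra.IsSeparable k (ResidueField A) := by
  set K := ResidueField A
  set L := ResidueField B
  haveI : IsScalarTower k K L := IsScalarTower.of_algebraMap_eq fun c ↦ by
    rw [IsScalarTower.algebraMap_apply k A L, IsScalarTower.algebraMap_apply k A K,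
      ← IsScalarTower.algebraMap_apply A K L]
  haveI : Module.Finite k K :=
    Module.Finite.of_injective (IsScalarTower.toAlgHom k K L).toLinearMap (algebraMap K L).injective
  -- differentials from `A` vanish in `Ω_{L/k}`
  have hβ : KaehlerDifferential.mapBaseChange k K L = 0 := by
    have key : ∀ x : Ω[K⁄k], KaehlerDifferential.map k k K L x = 0 := by
      intro x
      have hx : x ∈ Submodule.span K (Set.range (KaehlerDifferential.D k K)) :=
        (KaehlerDifferential.span_range_derivation k K).symm ▸ Submodule.mem_top
      induction hx using Submodule.span_induction with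
      | mem x hx =>
        obtain ⟨a, rfl⟩ := hx
        obtain ⟨a, rfl⟩ := IsLocalRing.residue_surjective a
        obtain ⟨c, hc⟩ := Submodule.mem_span_singleton.mp
          (hω ▸ (Submodule.mem_top : KaehlerDifferential.D k B (algebraMap A B a) ∈ ⊤))
        have hcm : c ∈ maximalIdeal B := (mem_maximalIdeal c).mpr (not_isUnit_coeff hω
          (fun h => hm (le_antisymm (Ideal.pow_le_self two_ne_zero) (h.symm.le.trans h2))) a c hc)
        have h1 := congrArg (KaehlerDifferential.map k k B L) hc
        rw [map_smul, KaehlerDifferential.map_D, ← IsScalarTower.algebraMap_apply A B L,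
          ← algebraMap_smul L c, show algebraMap B L c = 0 from (IsLocalRing.residue_eq_zero_iff c).mpr hcm,
          zero_smul] at h1
        rw [KaehlerDifferential.map_D]
        exact (congrArg (KaehlerDifferential.D k L) (IsScalarTower.algebraMap_apply A K L a).symm).trans h1.symm
      | zero => exact map_zero _
      | add x y _ _ hx hy => rw [map_add, hx, hy, add_zero]
      | smul c x _ hx => rw [LinearMap.map_smul_of_tower, hx, smul_zero]
    refine TensorProduct.AlgebraTensorModule.ext fun l x => ?_
    rw [KaehlerDifferential.mapBaseChange_tmul, key, smul_zero]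
    rfl
  -- `K` acts on `B ⧸ m²`
  let I := maximalIdeal B ^ 2
  have hI : I ≤ maximalIdeal B := Ideal.pow_le_self two_ne_zero
  let κC : K →+* B ⧸ I := Ideal.Quotient.lift (maximalIdeal A)
    ((Ideal.Quotient.mk I).comp (algebraMap A B)) fun a ha =>
      Ideal.Quotient.eq_zero_iff_mem.mpr (h2 (Ideal.mem_map_of_mem _ ha))
  letI algKC : Algebra K (B ⧸ I) := κC.toAlgebra
  let πC : B ⧸ I →+* L := Ideal.Quotient.factor hI
  letI algCL : Algebra (B ⧸ I) L := πC.toAlgebra
  haveI : IsScalarTower K (B ⧸ I) L := IsScalarTower.of_algebraMap_eq fun x => by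
    obtain ⟨a, rfl⟩ := IsLocalRing.residue_surjective x
    rfl
  let PB : Algebra.Extension.{u} k L :=
    { Ring := B
      σ := Function.surjInv IsLocalRing.residue_surjective
      algebraMap_σ := Function.surjInv_eq IsLocalRing.residue_surjective }
  let PC : Algebra.Extension.{u} K L :=
    { Ring := B ⧸ I
      σ := fun l => Ideal.Quotient.mk I (Function.surjInv IsLocalRing.residue_surjective l)
      algebraMap_σ := fun l => (show _ = _ from Function.surjInv_eq IsLocalRing.residue_surjective l) }
  haveI : Algebra.FormallySmooth k PB.Ring := ‹Algebra.FormallySmooth k B›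
  let q : PB.Hom PC :=
    { toRingHom := Ideal.Quotient.mk I
      toRingHom_algebraMap := fun x => by
        show Ideal.Quotient.mk I (algebraMap k B x) = κC (algebraMap k K x)
        rw [IsScalarTower.algebraMap_apply k A B, IsScalarTower.algebraMap_apply k A K]
        rfl
      algebraMap_toRingHom := fun x => rfl }
  have hq : Function.Injective (Algebra.Extension.H1Cotangent.map q) := by
    rw [injective_iff_map_eq_zero]
    rintro ⟨x, hx⟩ h
    obtain ⟨⟨b, hb⟩, rfl⟩ := Algebra.Extension.Cotangent.mk_surjective x
    refine Subtype.ext ?_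
    have h' : Algebra.Extension.Cotangent.map q (Algebra.Extension.Cotangent.mk ⟨b, hb⟩) = 0 :=
      congrArg Subtype.val h
    rw [Algebra.Extension.Cotangent.map_mk, Algebra.Extension.Cotangent.mk_eq_zero_iff] at h'
    show Algebra.Extension.Cotangent.mk _ = 0
    rw [Algebra.Extension.Cotangent.mk_eq_zero_iff]
    have hker : PC.ker = (maximalIdeal B).map (Ideal.Quotient.mk I) := by
      refine le_antisymm (fun y hy => ?_) (Ideal.map_le_iff_le_comap.mpr fun y hy => ?_)
      · obtain ⟨y, rfl⟩ := Ideal.Quotient.mk_surjective y
        exact Ideal.mem_map_of_mem _ ((IsLocalRing.residue_eq_zero_iff y).mp hy)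
      · exact (IsLocalRing.residue_eq_zero_iff y).mpr hy
    have h'' : Ideal.Quotient.mk I b ∈ PC.ker ^ 2 := h'
    rw [hker, ← Ideal.map_pow, Ideal.map_quotient_self] at h''
    have hbI : b ∈ I := Ideal.Quotient.eq_zero_iff_mem.mp ((Submodule.mem_bot _).mp h'')
    have hPB : PB.ker = maximalIdeal B := IsLocalRing.ker_residue
    show b ∈ PB.ker ^ 2
    rw [hPB]
    exact hbI
  have hdef : Function.Injective (Algebra.Extension.H1Cotangent.map PB.defaultHom) := by
    haveI : Algebra.FormallySmooth k (Algebra.Generators.self k L).toExtension.Ring :=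
      inferInstanceAs (Algebra.FormallySmooth k (MvPolynomial _ _))
    rw [← Algebra.Extension.H1Cotangent.equivOfFormallySmooth_toLinearMap]
    exact (Algebra.Extension.H1Cotangent.equivOfFormallySmooth _ _).injective
  have hinj : Function.Injective (Algebra.H1Cotangent.map k K L L) := by
    rw [injective_iff_map_eq_zero]
    intro x hx
    apply hdef
    rw [map_zero]
    apply hq
    rw [map_zero]
    have h1 := congrArg (Algebra.Extension.H1Cotangent.map PC.defaultHom) hx
    rw [map_zero] at h1
    rw [← h1, Algebra.H1Cotangent.map, ← Algebra.Extension.H1Cotangent.map_comp_apply,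
      ← Algebra.Extension.H1Cotangent.map_comp_apply, Algebra.Extension.H1Cotangent.map_eq]
  haveI : Algebra.EssFiniteType k L := inferInstance
  haveI : Algebra.EssFiniteType K L := Algebra.EssFiniteType.of_comp k K L
  haveI : Algebra.IsAlgebraic k L := Algebra.IsAlgebraic.of_finite k L
  haveI : Algebra.IsAlgebraic K L := Algebra.IsAlgebraic.tower_top (K := k) K
  obtain ⟨hf1, hf2, h3⟩ := CartierEq.cartier_equality k L
  obtain ⟨hg1, hg2, h4⟩ := CartierEq.cartier_equality K L
  haveI := hf1; haveI := hf2; haveI := hg1; haveI := hg2
  rw [trdeg_eq_zero (R := k) (A := L)] at h3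
  rw [trdeg_eq_zero (R := K) (A := L)] at h4
  simp only [map_zero, zero_add] at h3 h4
  haveI : Algebra.EssFiniteType k K := inferInstance
  have hδ : Function.Surjective (Algebra.H1Cotangent.δ k K L) := fun y =>
    ((Algebra.H1Cotangent.exact_δ_mapBaseChange k K L) y).mp (by rw [hβ]; rfl)
  have hker : LinearMap.ker (Algebra.H1Cotangent.δ k K L) = LinearMap.range (Algebra.H1Cotangent.map k K L L) :=
    (Algebra.H1Cotangent.exact_map_δ k K L).linearMap_ker_eq
  have hsum := LinearMap.finrank_range_add_finrank_ker (Algebra.H1Cotangent.δ k K L)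
  rw [LinearMap.range_eq_top.mpr hδ, finrank_top, hker, LinearMap.finrank_range_of_inj hinj,
    Module.finrank_baseChange, ← h3, ← h4] at hsum
  have hle : Module.finrank L Ω[L⁄K] ≤ Module.finrank L Ω[L⁄k] :=
    LinearMap.finrank_le_finrank_of_surjective (KaehlerDifferential.map_surjective k K L)
  have h0 : Module.finrank K Ω[K⁄k] = 0 := by omega
  haveI : Subsingleton Ω[K⁄k] := Module.finrank_zero_iff.mp h0
  haveI : Algebra.FormallyUnramified k K := ⟨inferInstance⟩
  exact Algebra.FormallyUnramified.isSeparable k K

end Groth.Agent.CurveDiff
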